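import Cfsg.Agent.Lib.CosetEnumHe.Cent.Class
import Cfsg.Agent.Lib.CosetEnumHe.Cent.GenData

/-!
The centraliser of `d` in the presented Held group has order at most 21504.
-/

set_option autoImplicit false
set_option maxRecDepth 20000

namespace Cfsg.Agent.Lib.CosetEnumHe.Cent.Bound

open Cfsg.Agent.Lib.CosetEnum
open Cfsg.Agent.Lib.Computation (getW)
open Cfsg.Agent.Lib.CosetEnum.HeWord (pres)
open Cfsg.Agent.Lib.CosetEnumHe.Held (H2058)
open Cfsg.Agent.Lib.CosetEnumHe.Cent.Class (zel zel_mem)

/-- The check of one coset: if it is fixed it is listed. -/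
noncomputable def fixChk (y : ℕ) : Bool :=
  force (scan He2058.letters.K He2058.table [3] y) fun t =>
    Bool.rec true (force (getW 6 GenData.fixPos y) fun p =>
      Nat.blt p 42 && Nat.beq (getW 12 GenData.fixCode p) y) (Nat.beq t y)

theorem fix_ok : allBelow 2058 fixChk = true := by decide +kernel

/-- The centraliser of `d` has order at most 21504. -/
theorem card_le (ρ : PresentedGroup pres →* Equiv.Perm (Fin 2058))
    (hρ : ∀ g < He2058.letters.K, ∀ i : Fin 2058,
      ((ρ (He2058.letters.phi pres g))⁻¹ i).1 = get32 He2058.table (i.1 * He2058.letters.K + g))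
    (hst : ∀ x, x ∈ H2058 ↔ ρ x ⟨0, by omega⟩ = ⟨0, by omega⟩)
    (hord : Nat.card (PresentedGroup pres) = 4030387200) (hH : Nat.card H2058 = 1958400) :
    Nat.card (Subgroup.centralizer ({zel} : Set (PresentedGroup pres))) ≤ 21504 := by
  classical
  haveI : Finite (PresentedGroup pres) := Nat.finite_of_card_ne_zero (by rw [hord]; omega)
  set C := Subgroup.centralizer ({zel} : Set (PresentedGroup pres))
  letI : MulAction C (Fin 2058) := MulAction.compHom _ (ρ.comp C.subtype)
  let p : Fin 2058 := ⟨0, by omega⟩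
  have hfix : ∀ y : MulAction.orbit C p, ∃ j : Fin 42, getW 12 GenData.fixCode j.1 = y.1.1 := by
    rintro ⟨y, ⟨c, rfl⟩⟩
    change ∃ j : Fin 42, _ = (ρ c.1 p).1
    have hc : c.1 * zel = zel * c.1 := Subgroup.mem_centralizer_singleton_iff.1 c.2
    have hz : ρ zel (ρ c.1 p) = ρ c.1 p := by
      rw [← Equiv.Perm.mul_apply, ← map_mul, ← hc, map_mul, Equiv.Perm.mul_apply,
        (hst zel).1 zel_mem]
    have hs := rho_scan He2058.letters pres ρ hρ [3] (by decide +kernel) (ρ c.1 p)
    have hz' : (ρ zel)⁻¹ (ρ c.1 p) = ρ c.1 p := by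
      rw [Equiv.Perm.inv_def, Equiv.symm_apply_eq, hz]
    change ((ρ zel)⁻¹ (ρ c.1 p)).1 = _ at hs
    rw [hz'] at hs
    have h := allBelow_iff.1 fix_ok (ρ c.1 p).1 (ρ c.1 p).2
    simp only [fixChk, force_eq] at h
    have hb : Nat.beq (scan He2058.letters.K He2058.table [3] (ρ c.1 p).1) (ρ c.1 p).1 = true := by
      rw [Nat.beq_eq]; exact hs.symm
    rw [hb] at h
    simp only [Bool.and_eq_true, Nat.blt_eq, Nat.beq_eq] at h
    exact ⟨⟨_, h.1⟩, h.2⟩
  choose f hf using hfix
  have h1 : Nat.card (MulAction.orbit C p) ≤ 42 := by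
    have hinj : Function.Injective f := fun a b h =>
      Subtype.ext (Fin.ext ((hf a).symm.trans ((congrArg (fun j : Fin 42 =>
        getW 12 GenData.fixCode j.1) h).trans (hf b))))
    simpa using Nat.card_le_card_of_injective f hinj
  have h2 : Nat.card (MulAction.stabilizer C p) ≤ 512 := by
    refine le_trans ?_ (Class.card_centralizer_le ρ hρ hH)
    refine Nat.card_le_card_of_injective
      (fun c => (⟨⟨c.1.1, (hst _).2 c.2⟩, ?_⟩ :
        Subgroup.centralizer ({⟨zel, zel_mem⟩} : Set H2058))) ?_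
    · rw [Subgroup.mem_centralizer_singleton_iff]
      exact Subtype.ext (Subgroup.mem_centralizer_singleton_iff.1 c.1.2)
    · intro a b h
      exact Subtype.ext (Subtype.ext (congrArg (fun q => q.1.1) h))
  calc Nat.card C = Nat.card (MulAction.orbit C p) * Nat.card (MulAction.stabilizer C p) := by
        rw [← Nat.card_prod]
        exact Nat.card_congr (MulAction.orbitProdStabilizerEquivGroup C p).symm
    _ ≤ 42 * 512 := Nat.mul_le_mul h1 h2
    _ = 21504 := by norm_num

end Cfsg.Agent.Lib.CosetEnumHe.Cent.Bound
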