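import Cfsg.Agent.Lib.CosetEnumHe.Stab
import Cfsg.Agent.Lib.CosetEnumHe.Cent.ClassData

/-!
The involution `d` has at least 3825 conjugates in the point stabiliser, so its centraliser there
has order at most 512.
-/

set_option autoImplicit false
set_option maxRecDepth 20000

namespace Cfsg.Agent.Lib.CosetEnumHe.Cent.Class

open Cfsg.Agent.Lib.CosetEnum
open Cfsg.Agent.Lib.Computation (getW packW packW_succ mulP okPerm decodeP decodeP_apply decodeP_mulP)
open Cfsg.Agent.Lib.CosetEnum.HeWord (pres)
open Cfsg.Agent.Lib.CosetEnumHe.Held (H2058)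
open Cfsg.Agent.Lib.CosetEnumHe.Sp44Data (permCodes)

/-- The involution `d` of the presented group. -/
noncomputable def zel : PresentedGroup pres := ([3].map (He2058.letters.phi pres)).prod

theorem words_mem : [3] ∈ He2058.subWords ∧ He2058.subWords.getD 2 [] = [3] := by decide +kernel

theorem zel_mem : zel ∈ H2058 := Subgroup.subset_closure ⟨_, words_mem.1, rfl⟩

/-- The entry. -/
noncomputable def entry (j : ℕ) : ℕ := getWord ClassData.entries j

/-- The permutation code. -/
noncomputable def code (j : ℕ) : ℕ := Nat.mod (entry j) (Nat.pow 2 595)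

/-- The parent. -/
noncomputable def par (j : ℕ) : ℕ := Nat.mod (Nat.shiftRight (entry j) 595) 4096

/-- The conjugating generator. -/
noncomputable def gen (j : ℕ) : ℕ := Nat.mod (Nat.shiftRight (entry j) 607) 8

/-- The depth. -/
noncomputable def dep (j : ℕ) : ℕ := Nat.shiftRight (entry j) 610

/-- The check of an entry. -/
noncomputable def chk (j : ℕ) : Bool :=
  force (code j) fun c => force (dep j) fun d =>
    okPerm 85 7 c && Nat.beq (packW 7 (fun x => getW 7 c x) 85) c &&
    (Bool.rec (force (gen j) fun k => force (par j) fun p =>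
        Nat.blt k 7 && Nat.blt p 3825 && Nat.blt (dep p) d &&
          force (permCodes.getD k 0) fun g => Nat.beq (mulP 85 7 g (code p)) (mulP 85 7 c g))
      (Nat.beq c (permCodes.getD 2 0)) (Nat.beq d 0)) &&
    Bool.rec true (Nat.blt c (code (Nat.add j 1))) (Nat.blt (Nat.add j 1) 3825)

theorem chk_ok : allBelow 3825 chk = true := by decide +kernel

theorem perm_getD (k : ℕ) (hk : k < 7) : permCodes.getD k 0 ∈ permCodes ∧
    decodeP 85 7 (permCodes.getD k 0) ∈ Sp44.semiGroup := by
  have hl : k < permCodes.length := hk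
  have h : permCodes.getD k 0 ∈ permCodes := by
    rw [List.getD_eq_getElem?_getD, List.getElem?_eq_getElem hl]; exact List.getElem_mem hl
  exact ⟨h, Subgroup.subset_closure ⟨_, (show permCodes.getD k 0 ∈ Sp44Data.seven_gens by
    rw [Sp44Data.seven_eq]; exact h), rfl⟩⟩

theorem packW_congr (w : ℕ) {f g : ℕ → ℕ} : ∀ {k : ℕ}, (∀ x < k, f x = g x) →
    packW w f k = packW w g k := by
  intro k
  induction k with
  | zero => intro _; rfl
  | succ k ih =>
    intro h
    rw [packW_succ, packW_succ, h k (by omega), ih fun x hx => h x (by omega)]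

theorem facts {j : ℕ} (hj : j < 3825) :
    okPerm 85 7 (code j) = true ∧ packW 7 (fun x => getW 7 (code j) x) 85 = code j ∧
      ((dep j = 0 ∧ code j = permCodes.getD 2 0) ∨ (gen j < 7 ∧ par j < 3825 ∧ dep (par j) < dep j ∧
        mulP 85 7 (permCodes.getD (gen j) 0) (code (par j)) =
          mulP 85 7 (code j) (permCodes.getD (gen j) 0))) ∧
      (j + 1 < 3825 → code j < code (j + 1)) := by
  have h := allBelow_iff.1 chk_ok j hj
  simp only [chk, force_eq, Bool.and_eq_true, Nat.beq_eq] at h
  obtain ⟨⟨⟨h1, h2⟩, h3⟩, h4⟩ := h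
  refine ⟨h1, h2, ?_, fun hlt => ?_⟩
  · cases hd : Nat.beq (dep j) 0
    · rw [hd] at h3
      simp only [Bool.and_eq_true, Nat.blt_eq, Nat.beq_eq] at h3
      exact Or.inr ⟨h3.1.1.1, h3.1.1.2, h3.1.2, h3.2⟩
    · rw [hd] at h3
      simp only [Nat.beq_eq] at h3
      exact Or.inl ⟨Nat.eq_of_beq_eq_true hd, h3⟩
  · have hb : Nat.blt (Nat.add j 1) 3825 = true := by rw [Nat.blt_eq]; exact hlt
    rw [hb] at h4
    simp only [Nat.blt_eq] at h4
    exact h4

theorem code_injective {i j : ℕ} (hi : i < 3825) (hj : j < 3825) (h : code i = code j) : i = j := by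
  have mono : ∀ a b, a < b → b < 3825 → code a < code b := by
    intro a b hab
    induction hab with
    | refl => intro hb; exact (facts (by omega)).2.2.2 hb
    | step hb ih => intro h'; exact (ih (by omega)).trans ((facts (by omega)).2.2.2 h')
  rcases Nat.lt_trichotomy i j with hlt | heq | hgt
  · exact absurd h (mono i j hlt hj).ne
  · exact heq
  · exact absurd h.symm (mono j i hgt hi).ne

theorem decode_injective {i j : ℕ} (hi : i < 3825) (hj : j < 3825)
    (h : decodeP 85 7 (code i) = decodeP 85 7 (code j)) : i = j := by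
  refine code_injective hi hj ?_
  rw [← (facts hi).2.1, ← (facts hj).2.1]
  refine packW_congr 7 fun x hx => ?_
  have := congrArg (fun σ : Equiv.Perm (Fin 85) => (σ ⟨x, hx⟩).1) h
  simpa [decodeP_apply (facts hi).1, decodeP_apply (facts hj).1] using this

/-- The centraliser of `d` in the point stabiliser has order at most 512. -/
theorem card_centralizer_le (ρ : PresentedGroup pres →* Equiv.Perm (Fin 2058))
    (hρ : ∀ g < He2058.letters.K, ∀ i : Fin 2058,
      ((ρ (He2058.letters.phi pres g))⁻¹ i).1 = get32 He2058.table (i.1 * He2058.letters.K + g))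
    (hH : Nat.card H2058 = 1958400) :
    Nat.card (Subgroup.centralizer ({⟨zel, zel_mem⟩} : Set H2058)) ≤ 512 := by
  classical
  obtain ⟨Ψ, hΨ, hinj, hrange⟩ := Stab.exists_hom hρ hH
  haveI : Finite H2058 := Nat.finite_of_card_ne_zero (by rw [hH]; omega)
  set z : H2058 := ⟨zel, zel_mem⟩
  have hz : Ψ z = decodeP 85 7 (permCodes.getD 2 0) := by
    refine Stab.rel_unique (hΨ z) ?_
    have h2 : 2 < He2058.subWords.length := by decide +kernel
    have h2' : 2 < permCodes.length := by decide +kernel
    have hc := List.Forall₂.get Stab.gen_check h2 h2'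
    have hw : He2058.subWords.get ⟨2, h2⟩ = [3] := rfl
    have hv : permCodes.get ⟨2, h2'⟩ = permCodes.getD 2 0 := rfl
    rw [hw, hv] at hc
    exact Stab.rel_gen hρ words_mem.1 (perm_getD 2 (by omega)).1 hc
  have key : ∀ n, ∀ j < 3825, dep j = n → ∃ x ∈ MulAction.orbit (ConjAct H2058) z,
      Ψ x = decodeP 85 7 (code j) := by
    intro n
    induction n using Nat.strong_induction_on with
    | _ n ih =>
      intro j hj hn
      rcases (facts hj).2.2.1 with ⟨-, hc⟩ | ⟨hg, hp, hlt, hm⟩
      · exact ⟨z, MulAction.mem_orbit_self z, by rw [hz, hc]⟩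
      · obtain ⟨x, hx, hxe⟩ := ih _ (hn ▸ hlt) _ hp rfl
        obtain ⟨y, hy⟩ := hrange (perm_getD _ hg).2
        refine ⟨y * x * y⁻¹, ?_, ?_⟩
        · obtain ⟨u, rfl⟩ := hx
          refine ⟨ConjAct.toConjAct y * u, ?_⟩
          change (ConjAct.toConjAct y * u) • z = _
          rw [mul_smul, ConjAct.smul_def, ConjAct.ofConjAct_toConjAct]
        · have hok : okPerm 85 7 (permCodes.getD (gen j) 0) = true :=
            Sp44Data.perms_ok _ (perm_getD _ hg).1
          have := congrArg (decodeP 85 7) hm
          rw [decodeP_mulP hok (facts hp).1, decodeP_mulP (facts hj).1 hok] at this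
          rw [map_mul, map_mul, map_inv, hy, hxe, this, mul_inv_cancel_right]
  choose f hf hfe using fun j : Fin 3825 => key _ j.1 j.2 rfl
  have hfinj : Function.Injective (fun j : Fin 3825 =>
      (⟨f j, hf j⟩ : MulAction.orbit (ConjAct H2058) z)) := by
    intro i j h
    refine Fin.ext (decode_injective i.2 j.2 ?_)
    rw [← hfe i, ← hfe j]
    exact congrArg Ψ (Subtype.ext_iff.1 h)
  have h1 := Nat.card_le_card_of_injective _ hfinj
  rw [Nat.card_fin] at h1
  have h2 : Nat.card (MulAction.orbit (ConjAct H2058) z) *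
      Nat.card (MulAction.stabilizer (ConjAct H2058) z) = 1958400 := by
    rw [← Nat.card_prod, ← Nat.card_congr (MulAction.orbitProdStabilizerEquivGroup (ConjAct H2058) z).symm]
    exact hH
  rw [ConjAct.stabilizer_eq_centralizer] at h2
  change Nat.card (MulAction.orbit (ConjAct H2058) z) * Nat.card (Subgroup.centralizer ({z} : Set H2058)) = 1958400 at h2
  by_contra hgt
  nlinarith [Nat.mul_le_mul h1 (not_le.1 hgt)]

end Cfsg.Agent.Lib.CosetEnumHe.Cent.Class
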