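import Cfsg.Agent.Lib.CosetEnumHe.Cent.Bound

/-!
The centraliser of `d` has order 21504 and acts faithfully on an orbit of length 336.
-/

set_option autoImplicit false
set_option maxRecDepth 20000

namespace Cfsg.Agent.Lib.CosetEnumHe.Cent.Orbit

open Cfsg.Agent.Lib.CosetEnum
open Cfsg.Agent.Lib.Computation (getW okPerm decodeP decodeP_apply permRep)
open Cfsg.Agent.Lib.CosetEnum.HeWord (pres)
open Cfsg.Agent.Lib.CosetEnumHe.Cent.Class (zel)

/-- The generators of the centraliser. -/
noncomputable def gensC : Set (PresentedGroup pres) :=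
  {x | ∃ w ∈ GenData.words, (w.map (He2058.letters.phi pres)).prod = x}

/-- The group of permutations of the orbit. -/
noncomputable def orbitGroup : Subgroup (Equiv.Perm (Fin 336)) :=
  Subgroup.closure (decodeP 336 9 '' {c | c ∈ GenData.orbitGroup_gens})

theorem card_orbitGroup : Nat.card orbitGroup = 21504 :=
  ((permRep 336 9 (by decide)).card_closure GenData.orbitGroup_check).trans GenData.orders.1

/-- The point of the orbit. -/
def ptCode (j : ℕ) : ℕ := getW 12 GenData.orbCode j

theorem pt_spec : (∀ j : Fin 336, ptCode j.1 < 2058) ∧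
    ∀ i j : Fin 336, ptCode i.1 = ptCode j.1 → i = j := by decide +kernel

theorem words_ok : ∀ w ∈ GenData.words, ∀ g ∈ w, g < He2058.letters.K := by decide +kernel

/-- A word commutes with `d` and induces the given permutation of the orbit. -/
noncomputable def genCheck (w : List ℕ) (c : ℕ) : Bool :=
  (allBelow 2058 fun y => Nat.beq (scan He2058.letters.K He2058.table (w ++ [3]) y)
      (scan He2058.letters.K He2058.table ([3] ++ w) y)) &&
    allBelow 336 fun j => Nat.beq (scan He2058.letters.K He2058.table w (ptCode (getW 9 c j))) (ptCode j)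

theorem gen_check : List.Forall₂ (fun w c => genCheck w c = true) GenData.words GenData.orbitPerms := by
  unfold GenData.words GenData.orbitPerms
  repeat' constructor
  all_goals decide +kernel

variable {ρ : PresentedGroup pres →* Equiv.Perm (Fin 2058)}

/-- `σ` is the permutation induced by `x` on the orbit. -/
def Rel (ρ : PresentedGroup pres →* Equiv.Perm (Fin 2058)) (x : PresentedGroup pres)
    (σ : Equiv.Perm (Fin 336)) : Prop :=
  ∀ j : Fin 336, ρ x ⟨ptCode j.1, pt_spec.1 j⟩ = ⟨ptCode (σ j).1, pt_spec.1 (σ j)⟩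

theorem rel_one : Rel ρ 1 1 := fun j => by simp

theorem rel_mul {x y : PresentedGroup pres} {σ τ : Equiv.Perm (Fin 336)} (h1 : Rel ρ x σ)
    (h2 : Rel ρ y τ) : Rel ρ (x * y) (σ * τ) := fun j => by
  rw [map_mul, Equiv.Perm.mul_apply, h2, h1]; rfl

theorem rel_inv {x : PresentedGroup pres} {σ : Equiv.Perm (Fin 336)} (h1 : Rel ρ x σ) :
    Rel ρ x⁻¹ σ⁻¹ := fun j => by
  rw [map_inv, Equiv.Perm.inv_def, Equiv.symm_apply_eq, h1]
  simp

theorem rel_unique {x : PresentedGroup pres} {σ τ : Equiv.Perm (Fin 336)} (h1 : Rel ρ x σ)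
    (h2 : Rel ρ x τ) : σ = τ :=
  Equiv.ext fun j => pt_spec.2 _ _ (congrArg Fin.val ((h1 j).symm.trans (h2 j)))

theorem gen_spec (hρ : ∀ g < He2058.letters.K, ∀ i : Fin 2058,
      ((ρ (He2058.letters.phi pres g))⁻¹ i).1 = get32 He2058.table (i.1 * He2058.letters.K + g))
    (hinj : Function.Injective ρ) {w : List ℕ} (hw : w ∈ GenData.words) {c : ℕ}
    (hc : c ∈ GenData.orbitPerms) (h : genCheck w c = true) :
    (w.map (He2058.letters.phi pres)).prod ∈ Subgroup.centralizer ({zel} : Set (PresentedGroup pres)) ∧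
      Rel ρ ((w.map (He2058.letters.phi pres)).prod) (decodeP 336 9 c) := by
  simp only [genCheck, Bool.and_eq_true] at h
  have h3 : ∀ g ∈ ([3] : List ℕ), g < He2058.letters.K := by decide +kernel
  refine ⟨?_, fun j => ?_⟩
  · rw [Subgroup.mem_centralizer_singleton_iff, Class.zel]
    rw [← List.prod_append, ← List.prod_append, ← List.map_append, ← List.map_append]
    apply hinj
    apply inv_injective
    refine Equiv.ext fun i => Fin.ext ?_
    have happ : ∀ a b : List ℕ, (∀ g ∈ a, g < He2058.letters.K) → (∀ g ∈ b, g < He2058.letters.K) →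
        ∀ g ∈ a ++ b, g < He2058.letters.K := fun a b ha hb g hg =>
      (List.mem_append.1 hg).elim (ha g) (hb g)
    rw [rho_scan He2058.letters pres ρ hρ _ (happ _ _ (words_ok w hw) h3),
      rho_scan He2058.letters pres ρ hρ _ (happ _ _ h3 (words_ok w hw))]
    exact Nat.eq_of_beq_eq_true (allBelow_iff.1 h.1 i.1 i.2)
  · set x := (w.map (He2058.letters.phi pres)).prod
    set i : Fin 2058 := ⟨ptCode (decodeP 336 9 c j).1, pt_spec.1 _⟩
    have hs := rho_scan He2058.letters pres ρ hρ w (words_ok w hw) i
    have hb := Nat.eq_of_beq_eq_true (allBelow_iff.1 h.2 j.1 j.2)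
    rw [← decodeP_apply (GenData.perms_ok.1 c hc)] at hb
    rw [hb] at hs
    have he : (ρ x)⁻¹ i = ⟨ptCode j.1, pt_spec.1 j⟩ := Fin.ext hs
    rw [Equiv.Perm.inv_def, Equiv.symm_apply_eq] at he
    exact he.symm

/-- The centraliser of `d` is isomorphic to the group on the orbit. -/
theorem exists_equiv : orderOf zel = 2 ∧
    Nonempty (Subgroup.centralizer ({zel} : Set (PresentedGroup pres)) ≃* orbitGroup) := by
  classical
  obtain ⟨ρ, hρ, hst, -, hinj, hord, hH⟩ := Held.exists_action
  haveI : Finite (PresentedGroup pres) :=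
    Nat.finite_of_card_ne_zero (by change Nat.card Cfsg.Spor.He ≠ 0; rw [hord]; omega)
  refine ⟨?_, ?_⟩
  · refine orderOf_eq_prime ?_ ?_
    · exact pow_eq_one_of_table He2058.letters pres ρ hρ hinj [3] (by decide +kernel) 2
        (by decide +kernel)
    · intro h
      have hb : scan He2058.letters.K He2058.table [3] 2 ≠ 2 := by decide +kernel
      apply hb
      have hs := rho_scan He2058.letters pres ρ hρ [3] (by decide +kernel) ⟨2, by omega⟩
      change ((ρ zel)⁻¹ _).1 = _ at hs
      rw [h, map_one, inv_one] at hs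
      exact hs.symm
  · set C := Subgroup.centralizer ({zel} : Set (PresentedGroup pres))
    have hgen : ∀ w ∈ GenData.words, ∃ c ∈ GenData.orbitPerms, genCheck w c = true := by
      intro w hw
      obtain ⟨k, hk, rfl⟩ := List.getElem_of_mem hw
      have hk' : k < GenData.orbitPerms.length := gen_check.length_eq ▸ hk
      exact ⟨_, List.getElem_mem hk', List.Forall₂.get gen_check hk hk'⟩
    let C' : Subgroup (PresentedGroup pres) := Subgroup.closure gensC
    have hle : C' ≤ C := by
      refine (Subgroup.closure_le _).2 ?_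
      rintro x ⟨w, hw, rfl⟩
      obtain ⟨c, hc, h⟩ := hgen w hw
      exact (gen_spec hρ hinj hw hc h).1
    have hex : ∀ x : C', ∃ σ, Rel ρ x.1 σ := by
      rintro ⟨x, hx⟩
      induction hx using Subgroup.closure_induction with
      | mem x hx =>
        obtain ⟨w, hw, rfl⟩ := hx
        obtain ⟨c, hc, h⟩ := hgen w hw
        exact ⟨_, (gen_spec hρ hinj hw hc h).2⟩
      | one => exact ⟨1, rel_one⟩
      | mul a b _ _ ha hb => exact ⟨_, rel_mul ha.choose_spec hb.choose_spec⟩
      | inv a _ ha => exact ⟨_, rel_inv ha.choose_spec⟩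
    choose σ hσ using hex
    let r : C' →* Equiv.Perm (Fin 336) :=
      MonoidHom.mk' σ fun a b => rel_unique (hσ (a * b)) (rel_mul (hσ a) (hσ b))
    have hrange : r.range = orbitGroup := by
      apply le_antisymm
      · rintro _ ⟨⟨x, hx⟩, rfl⟩
        induction hx using Subgroup.closure_induction with
        | mem x hx =>
          obtain ⟨w, hw, rfl⟩ := hx
          obtain ⟨c, hc, h⟩ := hgen w hw
          refine (congrArg (· ∈ orbitGroup) (rel_unique (hσ _) (gen_spec hρ hinj hw hc h).2)).mpr ?_
          exact Subgroup.subset_closure ⟨c, (show c ∈ GenData.orbitGroup_gens by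
            rw [GenData.gens_eq.1]; exact hc), rfl⟩
        | one => exact (show r 1 ∈ orbitGroup by rw [map_one]; exact one_mem _)
        | mul a b ha hb iha ihb =>
          exact (show r (⟨a, ha⟩ * ⟨b, hb⟩) ∈ orbitGroup by rw [map_mul]; exact mul_mem iha ihb)
        | inv a ha iha =>
          exact (show r (⟨a, ha⟩)⁻¹ ∈ orbitGroup by rw [map_inv]; exact inv_mem iha)
      · refine (Subgroup.closure_le _).2 ?_
        rintro _ ⟨c, hc, rfl⟩
        have hc' : c ∈ GenData.orbitPerms := GenData.gens_eq.1 ▸ hc
        obtain ⟨k, hk, rfl⟩ := List.getElem_of_mem hc'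
        have hk' : k < GenData.words.length := gen_check.length_eq.symm ▸ hk
        have hw := List.getElem_mem hk'
        exact ⟨⟨_, Subgroup.subset_closure ⟨_, hw, rfl⟩⟩, rel_unique (hσ _)
          (gen_spec hρ hinj hw hc' (List.Forall₂.get gen_check hk' hk)).2⟩
    have hC : Nat.card C ≤ 21504 := Bound.card_le ρ hρ hst hord hH
    have hlow : 21504 ≤ Nat.card C' := by
      rw [← card_orbitGroup, ← hrange]
      exact Nat.card_le_card_of_surjective _ r.rangeRestrict_surjective
    have heq : C' = C := Subgroup.eq_of_le_of_card_ge hle (hC.trans hlow)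
    have hb : Function.Bijective r.rangeRestrict := by
      rw [Nat.bijective_iff_surjective_and_card]
      refine ⟨r.rangeRestrict_surjective, ?_⟩
      have := Subgroup.card_le_of_le hle
      rw [hrange, card_orbitGroup]
      omega
    exact ⟨((MulEquiv.subgroupCongr heq.symm).trans (MulEquiv.ofBijective _ hb)).trans
      (MulEquiv.subgroupCongr hrange)⟩

end Cfsg.Agent.Lib.CosetEnumHe.Cent.Orbit
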