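import Cfsg.Agent.Lib.CosetEnumHe.Cent.GenData
import Cfsg.Agent.Lib.M24Affine.Basic

/-!
The group on the orbit is isomorphic to the centraliser of a transvection in `SL 5 2`, through a
common group of pairs of permutations.
-/

set_option autoImplicit false
set_option maxRecDepth 20000

namespace Cfsg.Agent.Lib.CosetEnumHe.Cent.Vectors

open Cfsg.Agent.Lib.Computation (getW okPerm decodeP decodeP_apply permRep)
open scoped Matrix

/-- Vectors as numbers. -/
def vecEquiv : (Fin 5 → ZMod 2) ≃ Fin 32 := finFunctionFinEquiv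

/-- The special linear group. -/
abbrev SL52 := Matrix.SpecialLinearGroup (Fin 5) (ZMod 2)

/-- The action on vectors. -/
def vecHom : SL52 →* Equiv.Perm (Fin 32) where
  toFun g := vecEquiv.permCongr
    { toFun := fun v => (g : Matrix (Fin 5) (Fin 5) (ZMod 2)) *ᵥ v
      invFun := fun v => ((g⁻¹ : SL52) : Matrix (Fin 5) (Fin 5) (ZMod 2)) *ᵥ v
      left_inv := fun v => by
        simp only [Matrix.mulVec_mulVec, ← Matrix.SpecialLinearGroup.coe_mul, inv_mul_cancel,
          Matrix.SpecialLinearGroup.coe_one, Matrix.one_mulVec]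
      right_inv := fun v => by
        simp only [Matrix.mulVec_mulVec, ← Matrix.SpecialLinearGroup.coe_mul, mul_inv_cancel,
          Matrix.SpecialLinearGroup.coe_one, Matrix.one_mulVec] }
  map_one' := Equiv.ext fun x => by
    simp [Equiv.permCongr_apply]
  map_mul' g h := Equiv.ext fun x => by
    simp [Equiv.permCongr_apply, Matrix.SpecialLinearGroup.coe_mul, Matrix.mulVec_mulVec]

theorem vecHom_apply (g : SL52) (x : Fin 32) :
    vecHom g x = vecEquiv ((g : Matrix (Fin 5) (Fin 5) (ZMod 2)) *ᵥ vecEquiv.symm x) := rfl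

theorem vecHom_injective : Function.Injective vecHom := by
  intro g h he
  refine Subtype.ext (Matrix.ext fun i k => ?_)
  have := congrArg (fun σ : Equiv.Perm (Fin 32) => σ (vecEquiv (Pi.single k 1))) he
  simp only [vecHom_apply, Equiv.symm_apply_apply, EmbeddingLike.apply_eq_iff_eq] at this
  simpa [Matrix.mulVec_single] using congrFun this i

/-- The matrix of a permutation code. -/
def matCode (c : ℕ) : Matrix (Fin 5) (Fin 5) (ZMod 2) :=
  Matrix.of fun i k => ((getW 5 c (2 ^ k.1) / 2 ^ i.1 % 2 : ℕ) : ZMod 2)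

theorem mat_check : List.Forall₂ (fun c d => matCode c * matCode d = 1 ∧
      matCode c * Matrix.transvection 0 1 1 = Matrix.transvection 0 1 1 * matCode c ∧
      ∀ x : Fin 32, (vecEquiv (matCode c *ᵥ vecEquiv.symm x)).1 = getW 5 c x.1)
    GenData.vecPerms GenData.vecPermsInv := by
  unfold GenData.vecPerms GenData.vecPermsInv
  repeat' constructor
  all_goals decide +kernel

/-- The group of permutations of the vectors. -/
noncomputable def vecGroup : Subgroup (Equiv.Perm (Fin 32)) :=
  Subgroup.closure (decodeP 32 5 '' {c | c ∈ GenData.vecGroup_gens})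

theorem card_vecGroup : Nat.card vecGroup = 21504 :=
  ((permRep 32 5 (by decide)).card_closure GenData.vecGroup_check).trans GenData.orders.2.1

theorem vecGroup_equiv (s : SL52)
    (hs : (s : Matrix (Fin 5) (Fin 5) (ZMod 2)) = Matrix.transvection 0 1 1) :
    Nonempty (vecGroup ≃* Subgroup.centralizer ({s} : Set SL52)) := by
  classical
  set C := Subgroup.centralizer ({s} : Set SL52)
  have hle : vecGroup ≤ C.map vecHom := by
    refine (Subgroup.closure_le _).2 ?_
    rintro _ ⟨c, hc, rfl⟩
    have hc' : c ∈ GenData.vecPerms := GenData.gens_eq.2.1 ▸ hc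
    obtain ⟨k, hk, rfl⟩ := List.getElem_of_mem hc'
    have hk' : k < GenData.vecPermsInv.length := mat_check.length_eq ▸ hk
    obtain ⟨h1, h2, h3⟩ := List.Forall₂.get mat_check hk hk'
    have hdet : (matCode GenData.vecPerms[k]).det = 1 := by
      have h := congrArg Matrix.det h1
      rw [Matrix.det_mul, Matrix.det_one] at h
      have : ∀ x y : ZMod 2, x * y = 1 → x = 1 := by decide
      exact this _ _ h
    refine ⟨⟨_, hdet⟩, ?_, ?_⟩
    · refine Subgroup.mem_centralizer_singleton_iff.2 (Subtype.ext ?_)
      change matCode GenData.vecPerms[k] * (s : Matrix (Fin 5) (Fin 5) (ZMod 2)) =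
        (s : Matrix (Fin 5) (Fin 5) (ZMod 2)) * matCode GenData.vecPerms[k]
      rw [hs]
      exact h2
    · refine Equiv.ext fun x => Fin.ext ?_
      rw [decodeP_apply (GenData.perms_ok.2.1 _ hc')]
      exact h3 x
  let e := Subgroup.equivMapOfInjective C vecHom vecHom_injective
  have hcard : Nat.card (C.map vecHom) ≤ 21504 :=
    (Nat.card_congr e.toEquiv).symm.le.trans (M24Affine.card_centralizer_le s hs)
  have heq : vecGroup = C.map vecHom :=
    Subgroup.eq_of_le_of_card_ge hle (hcard.trans card_vecGroup.ge)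
  exact ⟨(MulEquiv.subgroupCongr heq).trans e.symm⟩

end Cfsg.Agent.Lib.CosetEnumHe.Cent.Vectors
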