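import Cfsg.Agent.Lib.CosetEnumHe.Cent.Orbit
import Cfsg.Agent.Lib.CosetEnumHe.Cent.Vectors

/-!
An isomorphism between the group on the orbit and the group on the vectors.
-/

set_option autoImplicit false
set_option maxRecDepth 20000

namespace Cfsg.Agent.Lib.CosetEnumHe.Cent.Pairs

open Cfsg.Agent.Lib.Computation (getW okPerm decodeP decodeP_apply permRep)

/-- Pairs as permutations of the disjoint union. -/
def pairHom : Equiv.Perm (Fin 336) × Equiv.Perm (Fin 32) →* Equiv.Perm (Fin 368) :=
  (finSumFinEquiv (m := 336) (n := 32)).permCongrHom.toMonoidHom.comp (Equiv.Perm.sumCongrHom _ _)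

theorem pairHom_injective : Function.Injective pairHom :=
  (finSumFinEquiv (m := 336) (n := 32)).permCongrHom.injective.comp Equiv.Perm.sumCongrHom_injective

/-- The check of one generator. -/
def okTriple (t : (ℕ × ℕ) × ℕ) : Bool :=
  (List.range 336).all (fun j => Nat.beq (getW 9 t.2 j) (getW 9 t.1.1 j)) &&
    (List.range 32).all (fun j => Nat.beq (getW 9 t.2 (336 + j)) (336 + getW 5 t.1.2 j))

theorem triples_ok : List.Forall₂ (fun p c => okTriple (p, c) = true)
    (GenData.orbitPerms.zip GenData.vecPerms) GenData.pairPerms := by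
  unfold GenData.orbitPerms GenData.vecPerms GenData.pairPerms
  simp only [List.zip_cons_cons, List.zip_nil_left]
  repeat' constructor
  all_goals decide +kernel

theorem pairHom_decode {a b c : ℕ} (ha : okPerm 336 9 a = true) (hb : okPerm 32 5 b = true)
    (hc : okPerm 368 9 c = true) (h : okTriple ((a, b), c) = true) :
    pairHom (decodeP 336 9 a, decodeP 32 5 b) = decodeP 368 9 c := by
  simp only [okTriple, Bool.and_eq_true, List.all_eq_true, List.mem_range, Nat.beq_eq] at h
  refine Equiv.ext fun x => ?_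
  obtain ⟨y, rfl⟩ := (finSumFinEquiv (m := 336) (n := 32)).surjective x
  apply Fin.ext
  rw [decodeP_apply hc]
  rcases y with j | j
  · rw [show getW 9 c (finSumFinEquiv (Sum.inl j : Fin 336 ⊕ Fin 32)).1 = getW 9 a j.1 from by
      rw [finSumFinEquiv_apply_left]; exact h.1 j.1 j.2]
    simp [pairHom, Equiv.permCongr_apply]
    rw [finSumFinEquiv_apply_left]
    simp [decodeP_apply ha]
  · rw [show getW 9 c (finSumFinEquiv (Sum.inr j : Fin 336 ⊕ Fin 32)).1 = 336 + getW 5 b j.1 from by
      rw [finSumFinEquiv_apply_right]; exact h.2 j.1 j.2]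
    simp [pairHom, Equiv.permCongr_apply]
    rw [finSumFinEquiv_apply_right]
    simp [decodeP_apply hb]

/-- The generating pairs. -/
noncomputable def pairGens : Set (Equiv.Perm (Fin 336) × Equiv.Perm (Fin 32)) :=
  (fun p : ℕ × ℕ => (decodeP 336 9 p.1, decodeP 32 5 p.2)) ''
    {p | p ∈ GenData.orbitPerms.zip GenData.vecPerms}

theorem zip_spec : (GenData.orbitPerms.zip GenData.vecPerms).map Prod.fst = GenData.orbitGroup_gens ∧
    (GenData.orbitPerms.zip GenData.vecPerms).map Prod.snd = GenData.vecGroup_gens := by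
  decide +kernel

theorem card_pairs : Nat.card (Subgroup.closure pairGens) = 21504 := by
  have himg : pairHom '' pairGens = decodeP 368 9 '' {c | c ∈ GenData.pairGroup_gens} := by
    rw [GenData.gens_eq.2.2]
    ext σ
    constructor
    · rintro ⟨_, ⟨p, hp, rfl⟩, rfl⟩
      obtain ⟨k, hk, rfl⟩ := List.getElem_of_mem hp
      have hk' : k < GenData.pairPerms.length := triples_ok.length_eq ▸ hk
      refine ⟨_, List.getElem_mem hk', (pairHom_decode (GenData.perms_ok.1 _ ?_)
        (GenData.perms_ok.2.1 _ ?_) (GenData.perms_ok.2.2.2 _ (List.getElem_mem hk'))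
        (List.Forall₂.get triples_ok hk hk')).symm⟩
      · exact (List.of_mem_zip hp).1
      · exact (List.of_mem_zip hp).2
    · rintro ⟨c, hc, rfl⟩
      obtain ⟨k, hk, rfl⟩ := List.getElem_of_mem hc
      have hk' : k < (GenData.orbitPerms.zip GenData.vecPerms).length := triples_ok.length_eq.symm ▸ hk
      have hp := List.getElem_mem hk'
      exact ⟨_, ⟨_, hp, rfl⟩, pairHom_decode (GenData.perms_ok.1 _ (List.of_mem_zip hp).1)
        (GenData.perms_ok.2.1 _ (List.of_mem_zip hp).2) (GenData.perms_ok.2.2.2 _ hc)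
        (List.Forall₂.get triples_ok hk' hk)⟩
  rw [Nat.card_congr (Subgroup.equivMapOfInjective _ pairHom pairHom_injective).toEquiv,
    MonoidHom.map_closure, himg]
  exact ((permRep 368 9 (by decide)).card_closure GenData.pairGroup_check).trans GenData.orders.2.2

/-- The isomorphism. -/
theorem exists_equiv : Nonempty (Orbit.orbitGroup ≃* Vectors.vecGroup) := by
  have h1 : (Subgroup.closure pairGens).map (MonoidHom.fst _ _) = Orbit.orbitGroup := by
    rw [MonoidHom.map_closure, Orbit.orbitGroup, ← zip_spec.1, pairGens]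
    congr 1
    rw [Set.image_image]
    ext σ
    simp only [Set.mem_image, Set.mem_setOf_eq, List.mem_map, MonoidHom.coe_fst]
    constructor
    · rintro ⟨p, hp, rfl⟩; exact ⟨p.1, ⟨p, hp, rfl⟩, rfl⟩
    · rintro ⟨_, ⟨p, hp, rfl⟩, rfl⟩; exact ⟨p, hp, rfl⟩
  have h2 : (Subgroup.closure pairGens).map (MonoidHom.snd _ _) = Vectors.vecGroup := by
    rw [MonoidHom.map_closure, Vectors.vecGroup, ← zip_spec.2, pairGens]
    congr 1
    rw [Set.image_image]
    ext σ
    simp only [Set.mem_image, Set.mem_setOf_eq, List.mem_map, MonoidHom.coe_snd]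
    constructor
    · rintro ⟨p, hp, rfl⟩; exact ⟨p.2, ⟨p, hp, rfl⟩, rfl⟩
    · rintro ⟨_, ⟨p, hp, rfl⟩, rfl⟩; exact ⟨p, hp, rfl⟩
  have bij : ∀ {H : Type} [Group H] [Finite H] (f : Equiv.Perm (Fin 336) × Equiv.Perm (Fin 32) →* H)
      (K : Subgroup H), (Subgroup.closure pairGens).map f = K → Nat.card K = 21504 →
      Nonempty (Subgroup.closure pairGens ≃* K) := by
    intro H _ _ f K hK hc
    subst hK
    refine ⟨MulEquiv.ofBijective (f.subgroupMap _) ?_⟩
    rw [Nat.bijective_iff_surjective_and_card]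
    exact ⟨f.subgroupMap_surjective _, by rw [card_pairs, hc]⟩
  obtain ⟨e1⟩ := bij _ _ h1 Orbit.card_orbitGroup
  obtain ⟨e2⟩ := bij _ _ h2 Vectors.card_vecGroup
  exact ⟨e1.symm.trans e2⟩

end Cfsg.Agent.Lib.CosetEnumHe.Cent.Pairs
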